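import Mathlib
import Groth.Prelude.Def_Found
import Groth.Agent.Lib.Helper4.DimEq2
import Groth.Agent.Lib.Helper4.DimEq1
import Groth.Agent.Lib.Helper4.DimFT1
import Groth.Agent.Lib.Helper4.DimFT2

/-!
# Dimension theory over a universally catenary Noetherian local ring (ring level)
-/

set_option linter.style.haveILetI false
set_option linter.unusedVariables false
set_option linter.unusedSectionVars false
set_option autoImplicit false
set_option backward.isDefEq.respectTransparency.types false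
set_option synthInstance.maxHeartbeats 400000
set_option maxHeartbeats 1600000

universe u

namespace Groth.Agent.Helper7.DimLoc

open Groth.Agent.Lib.Helper4

/-- a field of finite type over a Noetherian domain: the generic point of the domain is open. -/
theorem exists_gdomain_elt {R L : Type u} [CommRing R] [IsDomain R] [IsNoetherianRing R]
    [CommRing L] (hL : IsField L) [Algebra R L] [FaithfulSMul R L] [Algebra.FiniteType R L] :
    ∃ g : R, g ≠ 0 ∧ ∀ P : Ideal R, P.IsPrime → P ≠ ⊥ → g ∈ P := by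
  haveI : IsDomain L := hL.isDomain
  haveI : Algebra.FinitePresentation R L :=
    Algebra.FinitePresentation.of_finiteType.mp inferInstance
  have hbot : ∀ Q : Ideal L, Q.IsPrime → Q = ⊥ := by
    intro Q hQ
    rw [eq_bot_iff]
    intro x hx
    by_contra hx0
    obtain ⟨y, hy⟩ := hL.mul_inv_cancel (show x ≠ 0 from hx0)
    exact hQ.ne_top (Q.eq_top_of_isUnit_mem hx (IsUnit.of_mul_eq_one y hy))
  have hunder : ((⊥ : Ideal L).under R) = ⊥ := by
    rw [eq_bot_iff]
    intro a ha
    have h1 : algebraMap R L a = 0 := by simpa [Ideal.under, Ideal.mem_comap] using ha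
    have h2 : a = 0 := FaithfulSMul.algebraMap_injective R L (by rw [h1, map_zero])
    rw [h2]
    exact Ideal.zero_mem _
  haveI : Algebra.HasGoingDown R L := by
    refine ⟨fun {p} _ Q _ hlt => ?_⟩
    exfalso
    rw [hbot Q inferInstance, hunder] at hlt
    exact not_lt_bot hlt
  have hopen := PrimeSpectrum.isOpenMap_comap_of_hasGoingDown_of_finitePresentation
    (R := R) (S := L)
  have h1 : IsOpen (Set.range (PrimeSpectrum.comap (algebraMap R L))) := hopen.isOpen_range
  have h2 : Set.range (PrimeSpectrum.comap (algebraMap R L)) =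
      {(⟨⊥, Ideal.isPrime_bot⟩ : PrimeSpectrum R)} := by
    ext P
    constructor
    · rintro ⟨Q, rfl⟩
      rw [Set.mem_singleton_iff]
      apply PrimeSpectrum.ext
      have hQ := hbot Q.asIdeal Q.isPrime
      show Q.asIdeal.comap (algebraMap R L) = ⊥
      rw [hQ]
      exact hunder
    · intro hP
      rw [Set.mem_singleton_iff] at hP
      rw [hP]
      refine ⟨⟨⊥, Ideal.isPrime_bot⟩, ?_⟩
      apply PrimeSpectrum.ext
      exact hunder
  rw [h2] at h1
  obtain ⟨_, ⟨g, rfl⟩, hmem, hsub⟩ :=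
    PrimeSpectrum.isTopologicalBasis_basic_opens.exists_subset_of_mem_open
      (Set.mem_singleton _) h1
  refine ⟨g, ?_, ?_⟩
  · intro h0
    rw [h0] at hmem
    exact hmem (Ideal.zero_mem _)
  · intro P hP hne
    by_contra hgP
    have h3 : (⟨P, hP⟩ : PrimeSpectrum R) ∈ (PrimeSpectrum.basicOpen g : Set (PrimeSpectrum R)) :=
      hgP
    have h4 := hsub h3
    rw [Set.mem_singleton_iff] at h4
    exact hne (congrArg PrimeSpectrum.asIdeal h4)

/-- the principal ideal theorem argument: a Noetherian G-domain has only primes of height `≤ 1`. -/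
theorem height_le_one_of_forall_mem {R : Type u} [CommRing R] [IsDomain R] [IsNoetherianRing R]
    (g : R) (hg0 : g ≠ 0) (hg : ∀ P : Ideal R, P.IsPrime → P ≠ ⊥ → g ∈ P) (P : Ideal R)
    [hP : P.IsPrime] : P.height ≤ 1 := by
  classical
  by_contra hlt
  rw [not_le] at hlt
  have hfin : ((Ideal.span {g}).minimalPrimes).Finite :=
    Ideal.finite_minimalPrimes_of_isNoetherianRing R _
  have hq1 : ∀ q ∈ (Ideal.span {g}).minimalPrimes, q.height ≤ 1 := fun q hq =>
    Ideal.height_le_one_of_isPrincipal_of_mem_minimalPrimes (Ideal.span {g}) q hq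
  have hnot : ¬ ((P : Set R) ⊆ ⋃ q ∈ (↑hfin.toFinset : Set (Ideal R)), (q : Set R)) := by
    intro hsub
    obtain ⟨q, hq, hPq⟩ := (Ideal.subset_union_prime (s := hfin.toFinset)
      (f := fun q : Ideal R => q) ⊥ ⊥
      (fun q hq _ _ => (hfin.mem_toFinset.mp hq).1.1)).mp hsub
    have hq' : q ∈ (Ideal.span {g}).minimalPrimes := hfin.mem_toFinset.mp hq
    haveI := hq'.1.1
    have h1 := (Ideal.height_mono hPq).trans (hq1 q hq')
    exact absurd hlt (not_lt.mpr h1)
  obtain ⟨h, hhP, hhn⟩ := Set.not_subset.mp hnot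
  have hP0 : P ≠ ⊥ := by
    rintro rfl
    rw [Ideal.height_bot] at hlt
    exact absurd hlt (by simp)
  have hgP : Ideal.span {g} ≤ P := (Ideal.span_singleton_le_iff_mem _).mpr (hg P hP hP0)
  have hh0 : h ≠ 0 := by
    rintro rfl
    obtain ⟨q, hq, -⟩ := Ideal.exists_minimalPrimes_le hgP
    apply hhn
    exact Set.mem_biUnion (hfin.mem_toFinset.mpr hq) q.zero_mem
  obtain ⟨Q, hQmin, hQP⟩ := Ideal.exists_minimalPrimes_le
    (show Ideal.span {h} ≤ P from (Ideal.span_singleton_le_iff_mem _).mpr hhP)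
  haveI := hQmin.1.1
  have hQ1 : Q.height ≤ 1 :=
    Ideal.height_le_one_of_isPrincipal_of_mem_minimalPrimes (Ideal.span {h}) Q hQmin
  have hhQ : h ∈ Q := hQmin.1.2 (Ideal.mem_span_singleton_self h)
  have hQne : Q ≠ ⊥ := by
    rintro rfl
    exact hh0 (by simpa using hhQ)
  have hgQ : g ∈ Q := hg Q inferInstance hQne
  obtain ⟨q, hqmin, hqQ⟩ := Ideal.exists_minimalPrimes_le
    (show Ideal.span {g} ≤ Q from (Ideal.span_singleton_le_iff_mem _).mpr hgQ)
  haveI := hqmin.1.1
  have hqne : q ≠ ⊥ := by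
    rintro rfl
    exact hg0 (by simpa using hqmin.1.2 (Ideal.mem_span_singleton_self g))
  have hqQeq : q = Q := by
    by_contra hne
    have hlt' : q < Q := lt_of_le_of_ne hqQ hne
    have h1 : q.height + 1 ≤ Q.height :=
      Order.add_one_le_of_lt (Ideal.height_strict_mono_of_isPrime hlt')
    have h2 : 1 ≤ q.height := by
      rw [Order.one_le_iff_pos, pos_iff_ne_zero, Ne, Ideal.height_eq_zero_iff_eq_bot]
      exact hqne
    have h3 : (1 : ℕ∞) + 1 ≤ 1 := (add_le_add h2 le_rfl).trans (h1.trans hQ1)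
    have h4 : ((1 + 1 : ℕ) : ℕ∞) ≤ ((1 : ℕ) : ℕ∞) := by
      push_cast
      exact h3
    have h5 : 1 + 1 ≤ 1 := by exact_mod_cast h4
    omega
  apply hhn
  rw [← hqQeq] at hhQ
  exact Set.mem_biUnion (hfin.mem_toFinset.mpr hqmin) hhQ

/-- The contraction of a maximal ideal of a finite type algebra over a Noetherian ring has
coheight at most one. -/
theorem ringKrullDim_quotient_under_le_one {A B : Type u} [CommRing A] [IsNoetherianRing A]
    [CommRing B] [Algebra A B] [Algebra.FiniteType A B] (q : Ideal B) [hq : q.IsMaximal] :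
    ringKrullDim (A ⧸ q.under A) ≤ 1 := by
  haveI : IsDomain (A ⧸ q.under A) := Ideal.Quotient.isDomain _
  have hL : IsField (B ⧸ q) := (Ideal.Quotient.maximal_ideal_iff_isField_quotient q).mp hq
  haveI : Algebra.FiniteType A (B ⧸ q) :=
    Algebra.FiniteType.of_surjective (Ideal.Quotient.mkₐ A q) (Ideal.Quotient.mkₐ_surjective A q)
  haveI : Algebra.FiniteType (A ⧸ q.under A) (B ⧸ q) :=
    Algebra.FiniteType.of_restrictScalars_finiteType A (A ⧸ q.under A) (B ⧸ q)
  obtain ⟨g, hg0, hg⟩ := exists_gdomain_elt (R := A ⧸ q.under A) (L := B ⧸ q) hL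
  have hR : Ring.KrullDimLE 1 (A ⧸ q.under A) := by
    rw [Ring.krullDimLE_one_iff_of_noZeroDivisors]
    intro I hI0 hIp
    haveI := hIp
    obtain ⟨M, hM, hIM⟩ := Ideal.exists_le_maximal I hIp.ne_top
    by_contra hnmax
    have hne : I ≠ M := fun h => hnmax (h ▸ hM)
    have hlt : I < M := lt_of_le_of_ne hIM hne
    haveI := hM.isPrime
    have h1 : I.height + 1 ≤ M.height :=
      Order.add_one_le_of_lt (Ideal.height_strict_mono_of_isPrime hlt)
    have h2 : 1 ≤ I.height := by
      rw [Order.one_le_iff_pos, pos_iff_ne_zero, Ne, Ideal.height_eq_zero_iff_eq_bot]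
      exact hI0
    have h3 : (1 : ℕ∞) + 1 ≤ 1 :=
      (add_le_add h2 le_rfl).trans (h1.trans (height_le_one_of_forall_mem g hg0 hg M))
    have h4 : ((1 + 1 : ℕ) : ℕ∞) ≤ ((1 : ℕ) : ℕ∞) := by
      push_cast
      exact h3
    have h5 : 1 + 1 ≤ 1 := by exact_mod_cast h4
    omega
  exact_mod_cast Ring.krullDimLE_iff.mp hR

theorem eq_maximalIdeal_of_dim_zero {A : Type u} [CommRing A] [IsLocalRing A] (p : Ideal A)
    [p.IsPrime] (h : ringKrullDim (A ⧸ p) = 0) : p = IsLocalRing.maximalIdeal A := by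
  haveI : Ring.KrullDimLE 0 (A ⧸ p) := Ring.krullDimLE_iff.mpr (by rw [h]; simp)
  have hf : IsField (A ⧸ p) := Ring.KrullDimLE.isField_of_isDomain
  have hm := Ideal.Quotient.maximal_of_isField p hf
  exact IsLocalRing.eq_maximalIdeal hm

theorem dim_quot_maximalIdeal (A : Type u) [CommRing A] [IsLocalRing A] :
    ringKrullDim (A ⧸ IsLocalRing.maximalIdeal A) = 0 :=
  ringKrullDim_eq_zero_of_isField
    ((Ideal.Quotient.maximal_ideal_iff_isField_quotient _).mp (IsLocalRing.maximalIdeal.isMaximal A))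

/-- In a catenary Noetherian local domain, `ht P + dim T/P = dim T`. -/
theorem height_add_dim_quotient_of_catenary (T : Type u) [CommRing T] [IsDomain T]
    [IsNoetherianRing T] [IsLocalRing T] (hcat : CAlg.IsCatenary T) (P : Ideal T) [hP : P.IsPrime] :
    (P.height : WithBot ℕ∞) + ringKrullDim (T ⧸ P) = ringKrullDim T := by
  apply le_antisymm (DimFT1.height_add_dim_quotient_le P)
  have hle : P ≤ IsLocalRing.maximalIdeal T := IsLocalRing.le_maximalIdeal hP.ne_top
  have h1 := DimEq1.htAdd_of_isCatenary T hcat P (IsLocalRing.maximalIdeal T) hle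
  haveI := DimFT2.isPrime_map_mk P (IsLocalRing.maximalIdeal T) hle
  have h2 : (((IsLocalRing.maximalIdeal T).map (Ideal.Quotient.mk P)).height : WithBot ℕ∞) ≤
      ringKrullDim (T ⧸ P) :=
    Ideal.height_le_ringKrullDim_of_ne_top (Ideal.IsPrime.ne_top inferInstance)
  rw [← IsLocalRing.maximalIdeal_height_eq_ringKrullDim (R := T)]
  calc ((IsLocalRing.maximalIdeal T).height : WithBot ℕ∞)
      ≤ ((((IsLocalRing.maximalIdeal T).map (Ideal.Quotient.mk P)).height + P.height : ℕ∞) :
          WithBot ℕ∞) := WithBot.coe_le_coe.mpr h1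
    _ = (((IsLocalRing.maximalIdeal T).map (Ideal.Quotient.mk P)).height : WithBot ℕ∞) +
          (P.height : WithBot ℕ∞) := WithBot.coe_add _ _
    _ ≤ ringKrullDim (T ⧸ P) + (P.height : WithBot ℕ∞) := add_le_add h2 le_rfl
    _ = _ := add_comm _ _

/-- The relative dimension formula over a universally catenary Noetherian local ring. -/
theorem rc (A₁ B : Type u) [CommRing A₁] [IsNoetherianRing A₁] [IsLocalRing A₁]
    (hA : CAlg.IsUniversallyCatenary A₁)
    [CommRing B] [Algebra A₁ B] [Algebra.FiniteType A₁ B] (q q' : Ideal B) [hq : q.IsPrime]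
    [hq' : q'.IsPrime] (hqq' : q ≤ q')
    (c t t' g g' : ℕ)
    (hc : (q'.map (Ideal.Quotient.mk q)).height = c)
    (ht : Algebra.trdeg (A₁ ⧸ q.under A₁) (B ⧸ q) = t)
    (ht' : Algebra.trdeg (A₁ ⧸ q'.under A₁) (B ⧸ q') = t')
    (hg : ringKrullDim (A₁ ⧸ q.under A₁) = g)
    (hg' : ringKrullDim (A₁ ⧸ q'.under A₁) = g') :
    c + t' + g' = t + g := by
  have hUC := DimEq1.uc_of_isUniversallyCatenary A₁ hA
  have h0 : q.under A₁ ≤ q'.under A₁ := Ideal.comap_mono hqq'
  have key := DimEq2.dim_eq_rel A₁ B hUC (q'.under A₁) q' q hqq'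
  haveI := DimFT2.isPrime_map_mk (q.under A₁) (q'.under A₁) h0
  obtain ⟨m₀, hm₀⟩ := ENat.ne_top_iff_exists.mp (Ideal.height_ne_top
    (I := (q'.under A₁).map (Ideal.Quotient.mk (q.under A₁))) (Ideal.IsPrime.ne_top inferInstance))
  rw [hc, ht', ← hm₀, ht] at key
  have key' : c + t' = m₀ + t := by
    have : ((c + t' : ℕ) : Cardinal.{u}) = ((m₀ + t : ℕ) : Cardinal.{u}) := by
      push_cast
      simpa using key
    exact_mod_cast this
  haveI : IsDomain (A₁ ⧸ q.under A₁) := Ideal.Quotient.isDomain _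
  haveI : Algebra.FiniteType A₁ (A₁ ⧸ q.under A₁) :=
    Algebra.FiniteType.of_surjective (Ideal.Quotient.mkₐ A₁ _)
      (Ideal.Quotient.mkₐ_surjective A₁ _)
  have hcat : CAlg.IsCatenary (A₁ ⧸ q.under A₁) := hA.2 _ inferInstance
  haveI : IsLocalRing (A₁ ⧸ q.under A₁) :=
    IsLocalRing.of_surjective' (Ideal.Quotient.mk _) Ideal.Quotient.mk_surjective
  have hcl := height_add_dim_quotient_of_catenary (A₁ ⧸ q.under A₁) hcat
    ((q'.under A₁).map (Ideal.Quotient.mk (q.under A₁)))
  rw [ringKrullDim_eq_of_ringEquiv (DoubleQuot.quotQuotEquivQuotOfLE h0), ← hm₀, hg', hg] at hcl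
  have h3 : m₀ + g' = g := by exact_mod_cast hcl
  omega

theorem exists_nat_ringKrullDim (R : Type u) [CommRing R] [FiniteRingKrullDim R] :
    ∃ n : ℕ, ringKrullDim R = n := by
  obtain ⟨m, hm⟩ := WithBot.ne_bot_iff_exists.mp (ringKrullDim_ne_bot (R := R))
  have hmtop : m ≠ ⊤ := by
    rintro rfl
    exact ringKrullDim_ne_top (R := R) hm.symm
  obtain ⟨n, hn⟩ := ENat.ne_top_iff_exists.mp hmtop
  exact ⟨n, by rw [← hm, ← hn]; rfl⟩

end Groth.Agent.Helper7.DimLoc
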