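import Mathlib
import Groth.Prelude.Def_Found
import Groth.Agent.Lib.Helper7.DimLoc.Ring
import Groth.Agent.Lib.Helper4.FibDim1
import Groth.Agent.Lib.Helper7.SuppDim.Main

/-!
# Dimension of the closure of a point in a scheme of finite type over a universally catenary
Noetherian local ring
-/

set_option linter.style.haveILetI false
set_option linter.unusedVariables false
set_option linter.unusedSectionVars false
set_option autoImplicit false
set_option backward.isDefEq.respectTransparency.types false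
set_option synthInstance.maxHeartbeats 400000
set_option maxHeartbeats 1600000

universe u

open CategoryTheory CategoryTheory.Limits AlgebraicGeometry TopologicalSpace IsLocalRing
open Groth.Agent.Lib.Helper4 Groth.Agent.Lib.Helper4.DimIneq2 Groth.Agent.Lib.Helper4.RadBir3
open Groth.Agent.Lib.Helper4.NormFibre2 Groth.Agent.Lib.Helper4.FibDim1

namespace Groth.Agent.Helper7.DimLoc

section Top

variable {T : Type*} [TopologicalSpace T] [QuasiSober T] [T0Space T]

theorem le_topologicalKrullDim_of_chain' (e : ℕ) (c : Fin (e + 1) → T)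
    (hc : ∀ i : Fin e, c i.castSucc ⤳ c i.succ ∧ ¬ c i.succ ⤳ c i.castSucc) :
    (e : WithBot ℕ∞) ≤ topologicalKrullDim T := by
  apply SuppDim.le_topologicalKrullDim_of_chain e (fun i => c i.rev)
  intro i
  show c (i.succ).rev ⤳ c (i.castSucc).rev ∧ ¬ c (i.castSucc).rev ⤳ c (i.succ).rev
  rw [Fin.rev_succ, Fin.rev_castSucc]
  exact hc i.rev

end Top

section Base

variable (A : Type u) [CommRing A]

/-- the identification of `A` with the global sections of its spectrum -/
noncomputable def eA : A ≃+* Γ(Spec (CommRingCat.of A), ⊤) :=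
  (Scheme.ΓSpecIso (CommRingCat.of A)).symm.commRingCatIsoToRingEquiv

theorem asIdeal_eq_comap (hV : IsAffineOpen (⊤ : (Spec (CommRingCat.of A)).Opens))
    (y : ↥(Spec (CommRingCat.of A))) (hy : y ∈ (⊤ : (Spec (CommRingCat.of A)).Opens)) :
    y.asIdeal = (hV.primeIdealOf ⟨y, hy⟩).asIdeal.comap
      (eA A : A →+* Γ(Spec (CommRingCat.of A), ⊤)) := by
  have h1 := (isAffineOpen_top (Spec (CommRingCat.of A))).fromSpec_primeIdealOf ⟨y, hy⟩
  rw [IsAffineOpen.fromSpec_top, Scheme.isoSpec_Spec_inv] at h1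
  have h2 : y.asIdeal = ((Spec.map (Scheme.ΓSpecIso (CommRingCat.of A)).inv)
      ((isAffineOpen_top (Spec (CommRingCat.of A))).primeIdealOf ⟨y, hy⟩)).asIdeal :=
    congrArg PrimeSpectrum.asIdeal h1.symm
  rw [h2]
  rfl

theorem dim_quot_eq (hV : IsAffineOpen (⊤ : (Spec (CommRingCat.of A)).Opens))
    (y : ↥(Spec (CommRingCat.of A))) (hy : y ∈ (⊤ : (Spec (CommRingCat.of A)).Opens)) :
    ringKrullDim (Γ(Spec (CommRingCat.of A), ⊤) ⧸ (hV.primeIdealOf ⟨y, hy⟩).asIdeal) =
      ringKrullDim (A ⧸ y.asIdeal) := by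
  have h := asIdeal_eq_comap A hV y hy
  have h3 : (hV.primeIdealOf ⟨y, hy⟩).asIdeal =
      y.asIdeal.map (eA A : A →+* Γ(Spec (CommRingCat.of A), ⊤)) := by
    rw [h, Ideal.map_comap_of_surjective (eA A : A →+* Γ(Spec (CommRingCat.of A), ⊤))
      (eA A).surjective]
  exact (ringKrullDim_eq_of_ringEquiv (Ideal.quotientEquiv y.asIdeal _ (eA A) h3)).symm

variable [IsNoetherianRing A] [IsLocalRing A]

theorem noeth_top : IsNoetherianRing Γ(Spec (CommRingCat.of A), ⊤) :=
  isNoetherianRing_of_ringEquiv A (eA A)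

theorem local_top : IsLocalRing Γ(Spec (CommRingCat.of A), ⊤) := (eA A).isLocalRing

theorem uc_top (hA : CAlg.IsUniversallyCatenary A) :
    CAlg.IsUniversallyCatenary Γ(Spec (CommRingCat.of A), ⊤) :=
  DimEq2.isUniversallyCatenary_of_ringEquiv (eA A) hA

theorem exists_dq (y : ↥(Spec (CommRingCat.of A))) :
    ∃ n : ℕ, ringKrullDim (A ⧸ y.asIdeal) = n := by
  haveI : y.asIdeal.IsPrime := y.isPrime
  haveI : IsLocalRing (A ⧸ y.asIdeal) :=
    IsLocalRing.of_surjective' (Ideal.Quotient.mk _) Ideal.Quotient.mk_surjective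
  exact exists_nat_ringKrullDim _

/-- the dimension of the closure of a point of `Spec A` -/
noncomputable def dq (y : ↥(Spec (CommRingCat.of A))) : ℕ := (exists_dq A y).choose

theorem dq_spec (y : ↥(Spec (CommRingCat.of A))) :
    ringKrullDim (A ⧸ y.asIdeal) = (dq A y : ℕ) := (exists_dq A y).choose_spec

theorem dq_eq_of (y : ↥(Spec (CommRingCat.of A))) (n : ℕ)
    (h : ringKrullDim (A ⧸ y.asIdeal) = n) : dq A y = n := by
  have h1 := dq_spec A y
  rw [h] at h1
  exact_mod_cast h1.symm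

theorem dq_closedPoint :
    dq A ((IsLocalRing.closedPoint A : PrimeSpectrum A) : ↥(Spec (CommRingCat.of A))) = 0 := by
  apply dq_eq_of
  show ringKrullDim (A ⧸ IsLocalRing.maximalIdeal A) = ((0 : ℕ) : WithBot ℕ∞)
  rw [dim_quot_maximalIdeal A]
  simp

theorem one_le_dq (y : ↥(Spec (CommRingCat.of A)))
    (hy : y ≠ ((IsLocalRing.closedPoint A : PrimeSpectrum A) : ↥(Spec (CommRingCat.of A)))) :
    1 ≤ dq A y := by
  by_contra hlt
  have h0 : dq A y = 0 := by omega
  have h1 := dq_spec A y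
  rw [h0] at h1
  haveI : y.asIdeal.IsPrime := y.isPrime
  have h2 := eq_maximalIdeal_of_dim_zero y.asIdeal (by simpa using h1)
  exact hy (PrimeSpectrum.ext h2)

end Base

section Sch

variable {A : Type u} [CommRing A] [IsNoetherianRing A] [IsLocalRing A] {X : Scheme.{u}}
  (f : X ⟶ Spec (CommRingCat.of A)) [LocallyOfFiniteType f]

/-- the dimension function -/
noncomputable def delta (z : X) : ℕ := dq A (f.base z) + tr f z

theorem tr_eq_zero_of_isClosed (z : X) (hz : IsClosed ({z} : Set X)) : tr f z = 0 := by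
  obtain ⟨z', hsp, -, h0, -⟩ := exists_closed_pt f z
  have h1 : z' = z := hsp.mem_closed hz (Set.mem_singleton z)
  rw [← h1]
  exact h0

theorem sk (hA : CAlg.IsUniversallyCatenary A) (z z' : X) (h : z ⤳ z') :
    ∃ c : ℕ, delta f z = delta f z' + c ∧ (z ≠ z' → 1 ≤ c) ∧
      ∃ w : Fin (c + 1) → X, (∀ i, z ⤳ w i) ∧
        ∀ i : Fin c, w i.castSucc ⤳ w i.succ ∧ ¬ w i.succ ⤳ w i.castSucc := by
  have hV := isAffineOpen_top (Spec (CommRingCat.of A))
  obtain ⟨U, hU, hz'U, hUV⟩ := exists_isAffineOpen_mem_and_subset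
    (U := f ⁻¹ᵁ (⊤ : (Spec (CommRingCat.of A)).Opens)) (x := z') trivial
  have hzU : z ∈ U := h.mem_open U.2 hz'U
  letI alg : Algebra Γ(Spec (CommRingCat.of A), ⊤) Γ(X, U) := (f.appLE ⊤ U hUV).hom.toAlgebra
  haveI := noeth_top A
  haveI := local_top A
  haveI : Algebra.FiniteType Γ(Spec (CommRingCat.of A), ⊤) Γ(X, U) :=
    LocallyOfFiniteType.finiteType_appLE f hV hU hUV
  haveI : IsNoetherianRing Γ(X, U) :=
    Algebra.FiniteType.isNoetherianRing Γ(Spec (CommRingCat.of A), ⊤) Γ(X, U)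
  haveI hloz := liesOver_chart f hV hU hUV z hzU rfl
  haveI hloz' := liesOver_chart f hV hU hUV z' hz'U rfl
  have hqle : (hU.primeIdealOf ⟨z, hzU⟩).asIdeal ≤ (hU.primeIdealOf ⟨z', hz'U⟩).asIdeal :=
    (specializes_iff_primeIdealOf_le hU ⟨z, hzU⟩ ⟨z', hz'U⟩).mp h
  haveI := DimFT2.isPrime_map_mk _ _ hqle
  obtain ⟨c, hc⟩ := ENat.ne_top_iff_exists.mp (Ideal.height_ne_top
    (I := (hU.primeIdealOf ⟨z', hz'U⟩).asIdeal.map
      (Ideal.Quotient.mk (hU.primeIdealOf ⟨z, hzU⟩).asIdeal)) (Ideal.IsPrime.ne_top inferInstance))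
  have ht : Algebra.trdeg (Γ(Spec (CommRingCat.of A), ⊤) ⧸
      (hU.primeIdealOf ⟨z, hzU⟩).asIdeal.under Γ(Spec (CommRingCat.of A), ⊤))
      (Γ(X, U) ⧸ (hU.primeIdealOf ⟨z, hzU⟩).asIdeal) = (tr f z : Cardinal.{u}) := by
    rw [← tr_chart f hV hU hUV z hzU rfl]
    exact trdeg_quot_congr _ _ _ _ hloz.over.symm rfl
  have ht' : Algebra.trdeg (Γ(Spec (CommRingCat.of A), ⊤) ⧸
      (hU.primeIdealOf ⟨z', hz'U⟩).asIdeal.under Γ(Spec (CommRingCat.of A), ⊤))
      (Γ(X, U) ⧸ (hU.primeIdealOf ⟨z', hz'U⟩).asIdeal) = (tr f z' : Cardinal.{u}) := by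
    rw [← tr_chart f hV hU hUV z' hz'U rfl]
    exact trdeg_quot_congr _ _ _ _ hloz'.over.symm rfl
  have hg : ringKrullDim (Γ(Spec (CommRingCat.of A), ⊤) ⧸
      (hU.primeIdealOf ⟨z, hzU⟩).asIdeal.under Γ(Spec (CommRingCat.of A), ⊤)) =
      (dq A (f.base z) : ℕ) := by
    rw [← hloz.over, ← dq_spec A (f.base z)]
    exact dim_quot_eq A hV (f.base z) (hUV hzU)
  have hg' : ringKrullDim (Γ(Spec (CommRingCat.of A), ⊤) ⧸
      (hU.primeIdealOf ⟨z', hz'U⟩).asIdeal.under Γ(Spec (CommRingCat.of A), ⊤)) =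
      (dq A (f.base z') : ℕ) := by
    rw [← hloz'.over, ← dq_spec A (f.base z')]
    exact dim_quot_eq A hV (f.base z') (hUV hz'U)
  have hrc := rc Γ(Spec (CommRingCat.of A), ⊤) Γ(X, U) (uc_top A hA)
    (hU.primeIdealOf ⟨z, hzU⟩).asIdeal (hU.primeIdealOf ⟨z', hz'U⟩).asIdeal hqle c (tr f z)
    (tr f z') (dq A (f.base z)) (dq A (f.base z')) hc.symm ht ht' hg hg'
  have hht := DimEq2.height_Ici_eq (hU.primeIdealOf ⟨z, hzU⟩).asIdeal
    (hU.primeIdealOf ⟨z', hz'U⟩).asIdeal hqle
  rw [← hc] at hht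
  obtain ⟨l, hlast, hlen⟩ := Order.exists_series_of_height_eq_coe _ hht
  subst hlen
  refine ⟨l.length, by unfold delta; omega, ?_, fun i => hU.fromSpec (l i).1, fun i => ?_,
    fun i => ?_⟩
  · intro hne
    have hqne : (hU.primeIdealOf ⟨z, hzU⟩).asIdeal ≠ (hU.primeIdealOf ⟨z', hz'U⟩).asIdeal := by
      intro heq
      apply hne
      have h2 : hU.primeIdealOf ⟨z, hzU⟩ = hU.primeIdealOf ⟨z', hz'U⟩ := PrimeSpectrum.ext heq
      exact congrArg Subtype.val (primeIdealOf_injective' hU h2)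
    have h1 := DimEq2.one_le_height_map_mk_of_ne _ _ hqle hqne
    rw [← hc] at h1
    exact_mod_cast h1
  · refine (specializes_iff_primeIdealOf_le hU ⟨z, hzU⟩
      ⟨hU.fromSpec (l i).1, fromSpec_mem hU _⟩).mpr ?_
    rw [primeIdealOf_fromSpec]
    exact (l i).2
  · have hlt : l i.castSucc < l i.succ := l.step i
    constructor
    · refine (specializes_iff_primeIdealOf_le hU ⟨hU.fromSpec (l i.castSucc).1, fromSpec_mem hU _⟩
        ⟨hU.fromSpec (l i.succ).1, fromSpec_mem hU _⟩).mpr ?_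
      rw [primeIdealOf_fromSpec, primeIdealOf_fromSpec]
      exact hlt.le
    · intro hrev
      have h1 := (specializes_iff_primeIdealOf_le hU ⟨hU.fromSpec (l i.succ).1, fromSpec_mem hU _⟩
        ⟨hU.fromSpec (l i.castSucc).1, fromSpec_mem hU _⟩).mp hrev
      rw [primeIdealOf_fromSpec, primeIdealOf_fromSpec] at h1
      exact hlt.not_ge h1

theorem dq_le_one_of_isClosed (z : X) (hz : IsClosed ({z} : Set X)) : dq A (f.base z) ≤ 1 := by
  have hV := isAffineOpen_top (Spec (CommRingCat.of A))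
  obtain ⟨U, hU, hzU, hUV⟩ := exists_isAffineOpen_mem_and_subset
    (U := f ⁻¹ᵁ (⊤ : (Spec (CommRingCat.of A)).Opens)) (x := z) trivial
  letI alg : Algebra Γ(Spec (CommRingCat.of A), ⊤) Γ(X, U) := (f.appLE ⊤ U hUV).hom.toAlgebra
  haveI := noeth_top A
  haveI : Algebra.FiniteType Γ(Spec (CommRingCat.of A), ⊤) Γ(X, U) :=
    LocallyOfFiniteType.finiteType_appLE f hV hU hUV
  haveI hloz := liesOver_chart f hV hU hUV z hzU rfl
  haveI hmax : (hU.primeIdealOf ⟨z, hzU⟩).asIdeal.IsMaximal :=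
    hU.primeIdealOf_isMaximal_of_isClosed ⟨z, hzU⟩ hz
  have h1 := ringKrullDim_quotient_under_le_one (A := Γ(Spec (CommRingCat.of A), ⊤))
    (B := Γ(X, U)) (hU.primeIdealOf ⟨z, hzU⟩).asIdeal
  rw [← hloz.over] at h1
  have h2 := dim_quot_eq A hV (f.base z) (hUV hzU)
  rw [h2, dq_spec A (f.base z)] at h1
  exact_mod_cast h1

theorem ub (hA : CAlg.IsUniversallyCatenary A) (x : X) (ε : ℕ)
    (hε : ∀ t : X, x ⤳ t → ε ≤ delta f t) :
    topologicalKrullDim ↥(closure ({x} : Set X)) ≤ ((delta f x - ε : ℕ) : WithBot ℕ∞) := by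
  haveI : QuasiSober ↥(closure ({x} : Set X)) :=
    (isClosed_closure.isClosedEmbedding_subtypeVal).quasiSober
  apply SuppDim.topologicalKrullDim_le_of_chains
  intro e c hc
  have hmono : ∀ i : Fin (e + 1), delta f (c 0).1 + i.1 ≤ delta f (c i).1 := by
    intro i
    induction i using Fin.induction with
    | zero => simp
    | succ i ih =>
      obtain ⟨h1, h2⟩ := hc i
      have h1' : (c i.succ).1 ⤳ (c i.castSucc).1 :=
        (subtype_specializes_iff (c i.succ) (c i.castSucc)).mp h1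
      obtain ⟨c', hc', hpos, -⟩ := sk f hA (c i.succ).1 (c i.castSucc).1 h1'
      have hne : (c i.succ).1 ≠ (c i.castSucc).1 := by
        intro heq
        apply h2
        have h3 : c i.succ = c i.castSucc := Subtype.ext heq
        rw [h3]
      have h4 := hpos hne
      have e1 : ((i.succ : Fin (e + 1)).1 : ℕ) = i.1 + 1 := by simp
      have e2 : ((i.castSucc : Fin (e + 1)).1 : ℕ) = i.1 := by simp
      rw [e1]
      rw [e2] at ih
      omega
  have hlast : delta f (c (Fin.last e)).1 ≤ delta f x := by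
    have hsp : x ⤳ (c (Fin.last e)).1 := specializes_iff_mem_closure.mpr (c (Fin.last e)).2
    obtain ⟨c', hc', -, -⟩ := sk f hA x _ hsp
    omega
  have h0 := hε (c 0).1 (specializes_iff_mem_closure.mpr (c 0).2)
  have h3 := hmono (Fin.last e)
  simp only [Fin.val_last] at h3
  have h5 : e ≤ delta f x - ε := by omega
  exact_mod_cast h5

theorem lb (hA : CAlg.IsUniversallyCatenary A) (x z : X) (hxz : x ⤳ z) :
    ((delta f x - delta f z : ℕ) : WithBot ℕ∞) ≤ topologicalKrullDim ↥(closure ({x} : Set X)) := by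
  haveI : QuasiSober ↥(closure ({x} : Set X)) :=
    (isClosed_closure.isClosedEmbedding_subtypeVal).quasiSober
  obtain ⟨c, hc, -, w, hw1, hw2⟩ := sk f hA x z hxz
  have hcc : delta f x - delta f z = c := by omega
  rw [hcc]
  apply le_topologicalKrullDim_of_chain' c
    (fun i => (⟨w i, specializes_iff_mem_closure.mp (hw1 i)⟩ : ↥(closure ({x} : Set X))))
  intro i
  obtain ⟨h1, h2⟩ := hw2 i
  exact ⟨(subtype_specializes_iff (p := (· ∈ closure ({x} : Set X))) ⟨w i.castSucc, _⟩
    ⟨w i.succ, _⟩).mpr h1, fun h => h2 ((subtype_specializes_iff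
      (p := (· ∈ closure ({x} : Set X))) ⟨w i.succ, _⟩ ⟨w i.castSucc, _⟩).mp h)⟩

theorem main (hA : CAlg.IsUniversallyCatenary A) [QuasiCompact f] (x : X) (a b d : ℕ)
    (ha : ringKrullDim (A ⧸ (f.base x).asIdeal) = a)
    (hb : letI := (f.residueFieldMap x).hom.toAlgebra;
      Algebra.trdeg ((Spec (CommRingCat.of A)).residueField (f.base x)) (X.residueField x) = b)
    (hd : topologicalKrullDim ↥(closure ({x} : Set X)) = d) :
    ((closure ({x} : Set X) ∩ f.base ⁻¹' {((IsLocalRing.closedPoint A : PrimeSpectrum A) :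
        ↥(Spec (CommRingCat.of A)))}).Nonempty → d = a + b) ∧
    (closure ({x} : Set X) ∩ f.base ⁻¹' {((IsLocalRing.closedPoint A : PrimeSpectrum A) :
        ↥(Spec (CommRingCat.of A)))} = ∅ → d + 1 = a + b) := by
  haveI : CompactSpace X := QuasiCompact.compactSpace_of_compactSpace f
  have hδx : delta f x = a + b := by
    unfold delta
    rw [dq_eq_of A (f.base x) a ha, tr_eq_of_trdeg_eq f x b hb]
  have hclosedpt : IsClosed ({((IsLocalRing.closedPoint A : PrimeSpectrum A) :
      ↥(Spec (CommRingCat.of A)))} : Set ↥(Spec (CommRingCat.of A))) :=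
    (PrimeSpectrum.isClosed_singleton_iff_isMaximal _).mpr (IsLocalRing.maximalIdeal.isMaximal A)
  have hfib : IsClosed (f.base ⁻¹' {((IsLocalRing.closedPoint A : PrimeSpectrum A) :
      ↥(Spec (CommRingCat.of A)))}) := hclosedpt.preimage f.continuous
  constructor
  · intro hne
    obtain ⟨z, ⟨hzx, hzm⟩, hzc⟩ := (isClosed_closure.inter hfib).exists_closed_singleton hne
    have hxz : x ⤳ z := specializes_iff_mem_closure.mpr hzx
    have hδz : delta f z = 0 := by
      unfold delta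
      rw [tr_eq_zero_of_isClosed f z hzc]
      have h1 : f.base z = ((IsLocalRing.closedPoint A : PrimeSpectrum A) :
        ↥(Spec (CommRingCat.of A))) := hzm
      rw [h1, dq_closedPoint]
    have hub := ub f hA x 0 (fun t _ => Nat.zero_le _)
    have hlb := lb f hA x z hxz
    rw [hd] at hub hlb
    rw [hδz] at hlb
    have h1 : d ≤ delta f x - 0 := by exact_mod_cast hub
    have h2 : delta f x - 0 ≤ d := by exact_mod_cast hlb
    omega
  · intro hempty
    obtain ⟨z, hzx, hzc⟩ := isClosed_closure.exists_closed_singleton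
      (⟨x, subset_closure (Set.mem_singleton x)⟩ : (closure ({x} : Set X)).Nonempty)
    have hxz : x ⤳ z := specializes_iff_mem_closure.mpr hzx
    have hne_of : ∀ t : X, x ⤳ t → f.base t ≠ ((IsLocalRing.closedPoint A : PrimeSpectrum A) :
        ↥(Spec (CommRingCat.of A))) := by
      intro t ht heq
      have h1 : t ∈ closure ({x} : Set X) ∩ f.base ⁻¹' {((IsLocalRing.closedPoint A :
          PrimeSpectrum A) : ↥(Spec (CommRingCat.of A)))} :=
        ⟨specializes_iff_mem_closure.mp ht, heq⟩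
      rw [hempty] at h1
      exact h1
    have hδz : delta f z = 1 := by
      unfold delta
      rw [tr_eq_zero_of_isClosed f z hzc]
      have h1 := dq_le_one_of_isClosed f z hzc
      have h2 := one_le_dq A (f.base z) (hne_of z hxz)
      omega
    have hub := ub f hA x 1 (fun t ht => by
      unfold delta
      have := one_le_dq A (f.base t) (hne_of t ht)
      omega)
    have hlb := lb f hA x z hxz
    rw [hd] at hub hlb
    rw [hδz] at hlb
    have h1 : d ≤ delta f x - 1 := by exact_mod_cast hub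
    have h2 : delta f x - 1 ≤ d := by exact_mod_cast hlb
    have h3 : 1 ≤ delta f x := by
      unfold delta
      have := one_le_dq A (f.base x) (hne_of x specializes_rfl)
      omega
    omega

end Sch

end Groth.Agent.Helper7.DimLoc
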